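import Mathlib.LinearAlgebra.FiniteDimensional.Lemmas
import Mathlib.LinearAlgebra.Dimension.RankNullity
import Mathlib.Data.Set.Card
import Mathlib.Data.Fintype.Perm
import Mathlib.Tactic.Module

/-! Commuting linear involutions: at most `2 ^ n` of them, and in the extremal case their commutant is
commutative. -/

set_option autoImplicit false

namespace Cfsg.Agent.GL3Two

variable {F V : Type*} [Field F] [AddCommGroup V] [Module F V] [FiniteDimensional F V] {E : Type*} [Monoid E] [Finite E]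

theorem restrict_card (h2 : (2 : F) ≠ 0) (ρ : E →* Module.End F V) (hsq : ∀ e, ρ e * ρ e = 1)
    (hcomm : ∀ e e', ρ e * ρ e' = ρ e' * ρ e) :
    ∀ (n : ℕ) (W : Submodule F V), Module.finrank F W = n → (∀ e, ∀ w ∈ W, ρ e w ∈ W) →
      (Set.range fun (e : E) (w : W) => ρ e (w : V)).ncard ≤ 2 ^ n ∧
      ((Set.range fun (e : E) (w : W) => ρ e (w : V)).ncard = 2 ^ n →
        (∃ e, ∀ w ∈ W, ρ e w = -w) ∧
        ∀ T S : Module.End F V, (∀ e, T * ρ e = ρ e * T) → (∀ e, S * ρ e = ρ e * S) →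
          (∀ w ∈ W, T w ∈ W) → (∀ w ∈ W, S w ∈ W) → ∀ w ∈ W, T (S w) = S (T w)) := by
  intro n
  induction n using Nat.strong_induction_on with
  | _ n ih =>
  intro W hn hW
  rcases Nat.eq_zero_or_pos n with rfl | hpos
  · have hbot : W = ⊥ := Submodule.finrank_eq_zero.1 hn
    have hz : ∀ w ∈ W, w = 0 := fun w hw => by rwa [hbot, Submodule.mem_bot] at hw
    refine ⟨(Set.ncard_le_one (Set.finite_range _)).2 ?_, fun _ => ⟨⟨1, fun w hw => by simp [hz w hw]⟩,
      fun T S _ _ _ _ w hw => by simp [hz w hw]⟩⟩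
    rintro _ ⟨e, rfl⟩ _ ⟨e', rfl⟩
    funext w
    simp [hz w w.2]
  by_cases hall : ∀ e, (∀ w ∈ W, ρ e w = w) ∨ (∀ w ∈ W, ρ e w = -w)
  · have hsub : (Set.range fun (e : E) (w : W) => ρ e (w : V)) ⊆
        {(fun w : W => (w : V)), fun w : W => -(w : V)} := by
      rintro _ ⟨e, rfl⟩
      rcases hall e with h | h
      · exact Or.inl (funext fun w => h w w.2)
      · exact Or.inr (funext fun w => h w w.2)
    have hle : (Set.range fun (e : E) (w : W) => ρ e (w : V)).ncard ≤ 2 := by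
      refine (Set.ncard_le_ncard hsub).trans ?_
      exact (Set.ncard_insert_le _ _).trans (by rw [Set.ncard_singleton])
    have hpw : 2 ≤ 2 ^ n := Nat.le_self_pow hpos.ne' 2
    refine ⟨hle.trans hpw, fun heq => ?_⟩
    have hn1 : n = 1 := by
      have : 2 ^ n = 2 ^ 1 := by rw [pow_one]; omega
      exact Nat.pow_right_injective le_rfl this
    constructor
    · by_contra hne
      push Not at hne
      have hsub1 : (Set.range fun (e : E) (w : W) => ρ e (w : V)) ⊆ {(fun w : W => (w : V))} := by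
        rintro _ ⟨e, rfl⟩
        rcases hall e with h | h
        · exact funext fun w => h w w.2
        · obtain ⟨w, hw, hw'⟩ := hne e
          exact absurd (h w hw) hw'
      have h1 := Set.ncard_le_ncard hsub1
      rw [Set.ncard_singleton] at h1
      omega
    · intro T S _ _ hT hS w hw
      by_cases hw0 : w = 0
      · simp [hw0]
      obtain ⟨v, hv, hspan⟩ := finrank_eq_one_iff'.1 (hn.trans hn1)
      obtain ⟨a, ha⟩ := hspan ⟨T v, hT _ v.2⟩
      obtain ⟨b, hb⟩ := hspan ⟨S v, hS _ v.2⟩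
      obtain ⟨c, hc⟩ := hspan ⟨w, hw⟩
      have ha' : T (v : V) = a • (v : V) := (congrArg Subtype.val ha).symm
      have hb' : S (v : V) = b • (v : V) := (congrArg Subtype.val hb).symm
      have hc' : w = c • (v : V) := (congrArg Subtype.val hc).symm
      rw [hc', map_smul, map_smul, map_smul, map_smul, hb', ha', map_smul, map_smul, ha', hb',
        smul_comm a b]
  push Not at hall
  obtain ⟨e, ⟨u, hu, hu'⟩, ⟨v, hv, hv'⟩⟩ := hall
  set P : Submodule F V := W ⊓ LinearMap.ker (ρ e - 1) with hP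
  set M : Submodule F V := W ⊓ LinearMap.ker (ρ e + 1) with hM
  have memP : ∀ x, x ∈ P ↔ x ∈ W ∧ ρ e x = x := fun x => by
    rw [hP, Submodule.mem_inf, LinearMap.mem_ker]; simp [sub_eq_zero]
  have memM : ∀ x, x ∈ M ↔ x ∈ W ∧ ρ e x = -x := fun x => by
    rw [hM, Submodule.mem_inf, LinearMap.mem_ker]; simp [eq_neg_iff_add_eq_zero]
  have hee : ∀ x, ρ e (ρ e x) = x := fun x => by rw [← Module.End.mul_apply, hsq]; rfl
  have hsum : P ⊔ M = W := by
    refine le_antisymm (sup_le inf_le_left inf_le_left) fun w hw => ?_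
    have h1 : (2 : F)⁻¹ • (w + ρ e w) ∈ P := (memP _).2
      ⟨W.smul_mem _ (W.add_mem hw (hW e w hw)), by rw [map_smul, map_add, hee, add_comm (ρ e w)]⟩
    have h3 : (2 : F)⁻¹ • (w - ρ e w) ∈ M := (memM _).2
      ⟨W.smul_mem _ (W.sub_mem hw (hW e w hw)), by rw [map_smul, map_sub, hee, ← smul_neg, neg_sub]⟩
    have h4 : (2 : F)⁻¹ • (w + ρ e w) + (2 : F)⁻¹ • (w - ρ e w) = w := by
      rw [← smul_add, show w + ρ e w + (w - ρ e w) = (2 : F) • w by rw [two_smul]; abel, smul_smul,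
        inv_mul_cancel₀ h2, one_smul]
    exact h4 ▸ Submodule.add_mem_sup h1 h3
  have hdis : P ⊓ M = ⊥ := by
    rw [eq_bot_iff]
    rintro x ⟨hxP, hxM⟩
    have e1 := ((memP x).1 hxP).2.symm.trans ((memM x).1 hxM).2
    have e2 : (2 : F) • x = 0 := by rw [two_smul]; nth_rewrite 1 [e1]; exact neg_add_cancel x
    exact (Submodule.mem_bot F).2 ((smul_eq_zero.1 e2).resolve_left h2)
  have hrank : Module.finrank F P + Module.finrank F M = n := by
    have := Submodule.finrank_sup_add_finrank_inf_eq P M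
    rw [hsum, hdis, hn, finrank_bot, add_zero] at this
    exact this.symm
  have hPlt : Module.finrank F P < n := by
    rw [← hn]
    refine Submodule.finrank_lt_finrank_of_lt (lt_of_le_of_ne inf_le_left fun h => hu' ?_)
    exact ((memP u).1 (h.symm ▸ hu)).2
  have hMlt : Module.finrank F M < n := by
    rw [← hn]
    refine Submodule.finrank_lt_finrank_of_lt (lt_of_le_of_ne inf_le_left fun h => hv' ?_)
    exact ((memM v).1 (h.symm ▸ hv)).2
  have hPinv : ∀ e', ∀ w ∈ P, ρ e' w ∈ P := fun e' w hw => (memP _).2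
    ⟨hW e' w ((memP w).1 hw).1, by
      rw [← Module.End.mul_apply, hcomm, Module.End.mul_apply, ((memP w).1 hw).2]⟩
  have hMinv : ∀ e', ∀ w ∈ M, ρ e' w ∈ M := fun e' w hw => (memM _).2
    ⟨hW e' w ((memM w).1 hw).1, by
      rw [← Module.End.mul_apply, hcomm, Module.End.mul_apply, ((memM w).1 hw).2, map_neg]⟩
  obtain ⟨hP1, hP2⟩ := ih _ hPlt P rfl hPinv
  obtain ⟨hM1, hM2⟩ := ih _ hMlt M rfl hMinv
  set r : (W → V) → (P → V) × (M → V) := fun f =>
    (fun w => f ⟨w, ((memP w).1 w.2).1⟩, fun w => f ⟨w, ((memM w).1 w.2).1⟩) with hr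
  have hinj : Set.InjOn r (Set.range fun (e : E) (w : W) => ρ e (w : V)) := by
    rintro _ ⟨a, rfl⟩ _ ⟨b, rfl⟩ hab
    funext w
    obtain ⟨p, hp, m, hm, hw⟩ := Submodule.mem_sup.1 (hsum.symm ▸ w.2 : (w : V) ∈ P ⊔ M)
    have e1 : ρ a p = ρ b p := congrFun (congrArg Prod.fst hab) ⟨p, hp⟩
    have e2 : ρ a m = ρ b m := congrFun (congrArg Prod.snd hab) ⟨m, hm⟩
    show ρ a (w : V) = ρ b (w : V)
    rw [← hw, map_add, map_add, e1, e2]
  have himg : r '' (Set.range fun (e : E) (w : W) => ρ e (w : V)) ⊆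
      (Set.range fun (e : E) (w : P) => ρ e (w : V)) ×ˢ (Set.range fun (e : E) (w : M) => ρ e (w : V)) := by
    rintro _ ⟨_, ⟨a, rfl⟩, rfl⟩
    exact ⟨⟨a, rfl⟩, ⟨a, rfl⟩⟩
  have hfin := (Set.finite_range fun (e : E) (w : P) => ρ e (w : V)).prod
    (Set.finite_range fun (e : E) (w : M) => ρ e (w : V))
  have hc := Set.ncard_le_ncard himg hfin
  rw [Set.ncard_image_of_injOn hinj, Set.ncard_prod] at hc
  have hbound := Nat.mul_le_mul hP1 hM1
  rw [← pow_add, hrank] at hbound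
  refine ⟨hc.trans hbound, fun heq => ?_⟩
  have hprod := le_antisymm hbound (heq ▸ hc)
  have hP3 : (Set.range fun (e : E) (w : P) => ρ e (w : V)).ncard = 2 ^ Module.finrank F P := by
    refine le_antisymm hP1 (Nat.le_of_not_lt fun hlt => ?_)
    have := Nat.mul_lt_mul_of_lt_of_le hlt hM1 (by positivity)
    rw [← pow_add, hrank] at this
    omega
  have hM3 : (Set.range fun (e : E) (w : M) => ρ e (w : V)).ncard = 2 ^ Module.finrank F M := by
    refine le_antisymm hM1 (Nat.le_of_not_lt fun hlt => ?_)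
    have := Nat.mul_lt_mul_of_le_of_lt hP1 hlt (by positivity)
    rw [← pow_add, hrank] at this
    omega
  obtain ⟨⟨a, ha⟩, hPc⟩ := hP2 hP3
  obtain ⟨⟨b, hb⟩, hMc⟩ := hM2 hM3
  constructor
  · have heqset := Set.eq_of_subset_of_ncard_le himg
      (by rw [Set.ncard_image_of_injOn hinj, Set.ncard_prod, heq, hP3, hM3, ← pow_add, hrank]) hfin
    obtain ⟨_, ⟨d, rfl⟩, hd⟩ :=
      heqset.symm.subset (Set.mk_mem_prod (⟨a, rfl⟩ : (fun w : P => ρ a (w : V)) ∈
        Set.range fun (e : E) (w : P) => ρ e (w : V)) (⟨b, rfl⟩ : (fun w : M => ρ b (w : V)) ∈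
        Set.range fun (e : E) (w : M) => ρ e (w : V)))
    refine ⟨d, fun w hw => ?_⟩
    obtain ⟨p, hp, m, hm, rfl⟩ := Submodule.mem_sup.1 (hsum.symm ▸ hw : w ∈ P ⊔ M)
    have e1 : ρ d p = -p := (congrFun (congrArg Prod.fst hd) ⟨p, hp⟩).trans (ha p hp)
    have e2 : ρ d m = -m := (congrFun (congrArg Prod.snd hd) ⟨m, hm⟩).trans (hb m hm)
    rw [map_add, e1, e2]; abel
  · intro T S hT hS hTW hSW w hw
    have hpres : ∀ R : Module.End F V, (∀ e, R * ρ e = ρ e * R) → (∀ w ∈ W, R w ∈ W) →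
        (∀ w ∈ P, R w ∈ P) ∧ (∀ w ∈ M, R w ∈ M) := fun R hR hRW =>
      ⟨fun w hw => (memP _).2 ⟨hRW w ((memP w).1 hw).1, by
        rw [← Module.End.mul_apply, ← hR, Module.End.mul_apply, ((memP w).1 hw).2]⟩,
       fun w hw => (memM _).2 ⟨hRW w ((memM w).1 hw).1, by
        rw [← Module.End.mul_apply, ← hR, Module.End.mul_apply, ((memM w).1 hw).2, map_neg]⟩⟩
    obtain ⟨p, hp, m, hm, rfl⟩ := Submodule.mem_sup.1 (hsum.symm ▸ hw : w ∈ P ⊔ M)
    simp only [map_add]
    rw [hPc T S hT hS (hpres T hT hTW).1 (hpres S hS hSW).1 p hp,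
      hMc T S hT hS (hpres T hT hTW).2 (hpres S hS hSW).2 m hm]

end Cfsg.Agent.GL3Two
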