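import Mathlib.GroupTheory.Transfer
import Mathlib.GroupTheory.Sylow
import Mathlib.RingTheory.IntegralDomain

/-! Transfer of a central involution of a Sylow 2-subgroup. -/

set_option autoImplicit false
open MulAction

namespace Cfsg.Agent.GL3Two

variable {G : Type*} [Group G] [Finite G] {H : Subgroup G} {F : Type*} [Field F] [Finite F]

open Classical in
/-- The value of `ψ` at a coset, one if `t` moves it. -/
noncomputable def val (ψ : H →* Fˣ) (t : G) (x : G ⧸ H) : Fˣ :=
  if hx : x.out⁻¹ * t * x.out ∈ H then ψ ⟨_, hx⟩ else 1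

omit [Finite G] [Finite F] in
theorem val_mk (ψ : H →* Fˣ) (t g : G) (hg : g⁻¹ * t * g ∈ H) :
    val ψ t (QuotientGroup.mk g : G ⧸ H) = ψ ⟨_, hg⟩ := by
  obtain ⟨a, ha⟩ := QuotientGroup.mk_out_eq_mul H g
  have e : (QuotientGroup.mk g : G ⧸ H).out⁻¹ * t * (QuotientGroup.mk g : G ⧸ H).out =
      (a : G)⁻¹ * (g⁻¹ * t * g) * a := by rw [ha]; group
  have hmem : (QuotientGroup.mk g : G ⧸ H).out⁻¹ * t * (QuotientGroup.mk g : G ⧸ H).out ∈ H :=
    e ▸ H.mul_mem (H.mul_mem (H.inv_mem a.2) hg) a.2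
  rw [val, dif_pos hmem, show (⟨_, hmem⟩ : H) = a⁻¹ * ⟨_, hg⟩ * a from Subtype.ext e, map_mul,
    map_mul, map_inv, mul_comm (ψ a)⁻¹, inv_mul_cancel_right]

omit [Finite G] [Finite F] in
theorem val_of_notMem (ψ : H →* Fˣ) (t g : G) (hg : g⁻¹ * t * g ∉ H) :
    val ψ t (QuotientGroup.mk g : G ⧸ H) = 1 := by
  obtain ⟨a, ha⟩ := QuotientGroup.mk_out_eq_mul H g
  refine dif_neg fun hmem => hg ?_
  have e : g⁻¹ * t * g = (a : G) * ((QuotientGroup.mk g : G ⧸ H).out⁻¹ * t *
      (QuotientGroup.mk g : G ⧸ H).out) * (a : G)⁻¹ := by rw [ha]; group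
  exact e ▸ H.mul_mem (H.mul_mem a.2 hmem) (H.inv_mem a.2)

omit [Finite F] in
theorem transfer_eq [Fintype (G ⧸ H)] (ψ : H →* Fˣ) {t : G} (ht : t ^ 2 = 1) :
    MonoidHom.transfer ψ t = ∏ x : G ⧸ H, val ψ t x := by
  classical
  haveI : Fintype (Quotient (orbitRel (Subgroup.zpowers t) (G ⧸ H))) := Fintype.ofFinite _
  rw [MonoidHom.transfer_eq_prod_quotient_orbitRel_zpowers_quot, ← Finset.prod_fiberwise Finset.univ
    (fun x => (Quotient.mk'' x : Quotient (orbitRel (Subgroup.zpowers t) (G ⧸ H)))) (val ψ t)]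
  refine Finset.prod_congr rfl fun q _ => ?_
  have hfix : ∀ x : G ⧸ H, x.out⁻¹ * t * x.out ∈ H ↔ t • x = x := fun x => by
    conv_rhs => rw [← QuotientGroup.out_eq' x, MulAction.Quotient.smul_mk, QuotientGroup.eq, smul_eq_mul,
      ← Subgroup.inv_mem_iff]
    congr! 1
    group
  have horbit : ∀ x y : G ⧸ H, (Quotient.mk'' x : Quotient (orbitRel (Subgroup.zpowers t) (G ⧸ H))) =
      Quotient.mk'' y → ∃ i : ℤ, t ^ i • y = x := fun x y e => by
    obtain ⟨⟨_, i, rfl⟩, hi⟩ := Quotient.eq''.1 e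
    exact ⟨i, hi⟩
  set p := Function.minimalPeriod (t • ·) q.out with hp
  have hper : p ∣ 2 := by
    rw [hp, ← MulAction.pow_smul_eq_iff_minimalPeriod_dvd, ht, one_smul]
  by_cases hfx : t • q.out = q.out
  · have hp1 : p = 1 := Function.minimalPeriod_eq_one_iff_isFixedPt.2 hfx
    have hone : (Finset.univ.filter fun x : G ⧸ H =>
        (Quotient.mk'' x : Quotient (orbitRel (Subgroup.zpowers t) (G ⧸ H))) = q) = {q.out} := by
      ext x
      simp only [Finset.mem_filter, Finset.mem_univ, true_and, Finset.mem_singleton]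
      refine ⟨fun e => ?_, fun e => e ▸ Quotient.out_eq' q⟩
      obtain ⟨i, hi⟩ := horbit x q.out (e.trans (Quotient.out_eq' q).symm)
      have hst : t ∈ MulAction.stabilizer G q.out := hfx
      exact hi ▸ (MulAction.mem_stabilizer_iff.1 (Subgroup.zpow_mem _ hst i))
    rw [hone, Finset.prod_singleton, val, dif_pos ((hfix _).2 hfx)]
    congr 1
    apply Subtype.ext
    show q.out.out⁻¹ * t ^ p * q.out.out = q.out.out⁻¹ * t * q.out.out
    rw [hp1, pow_one]
  · have hp2 : p = 2 := ((Nat.dvd_prime Nat.prime_two).1 hper).resolve_left fun e =>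
      hfx (Function.minimalPeriod_eq_one_iff_isFixedPt.1 e)
    rw [Finset.prod_eq_one fun x hx => ?_]
    · convert map_one ψ
      simp only [← hp, hp2, ht, Subgroup.coe_one]; group
    · refine dif_neg fun hmem => hfx ?_
      obtain ⟨i, hi⟩ := horbit x q.out ((Finset.mem_filter.1 hx).2.trans (Quotient.out_eq' q).symm)
      have := (hfix x).1 hmem
      rw [← hi, ← mul_smul, (Commute.self_zpow t i).eq, mul_smul] at this
      exact MulAction.injective (t ^ i) this

theorem exists_index_two_of_range (f : G →* Fˣ) {t : G} (ht : f t = -1) (h2 : (-1 : Fˣ) ≠ 1) :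
    ∃ K : Subgroup G, K.index = 2 := by
  haveI : Finite f.range := inferInstance
  obtain ⟨u, hu⟩ := IsCyclic.exists_generator (α := f.range)
  have hord : orderOf u = Nat.card f.range := orderOf_eq_card_of_forall_mem_zpowers hu
  have heven : 2 ∣ Nat.card f.range := by
    have h : orderOf (⟨f t, t, rfl⟩ : f.range) = 2 := by
      refine orderOf_eq_prime ?_ ?_
      · exact Subtype.ext (by simp [ht])
      · intro h
        exact h2 (ht ▸ congrArg Subtype.val h)
    exact h ▸ orderOf_dvd_natCard _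
  refine ⟨(Subgroup.zpowers (u ^ 2)).comap f.rangeRestrict, ?_⟩
  rw [Subgroup.index_comap_of_surjective _ f.rangeRestrict_surjective]
  have h1 := (Subgroup.zpowers (u ^ 2)).card_mul_index
  rw [Nat.card_zpowers, orderOf_pow_of_dvd (by norm_num) (hord ▸ heven), hord] at h1
  have h3 : Nat.card f.range ≠ 0 := Nat.card_pos.ne'
  obtain ⟨m, hm⟩ := heven
  rw [hm, Nat.mul_div_cancel_left _ two_pos, mul_comm 2 m] at h1
  exact Nat.eq_of_mul_eq_mul_left (by omega) h1

theorem exists_index_two (X : Sylow 2 G) (ψ : (X : Subgroup G) →* Fˣ) (h2 : (-1 : Fˣ) ≠ 1) {c : G}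
    (hcX : c ∈ (X : Subgroup G)) (hc : c ^ 2 = 1) (hcen : ∀ x ∈ (X : Subgroup G), x * c = c * x)
    (hfus : ∀ g ∈ Subgroup.normalizer ((X : Subgroup G) : Set G), ∀ h : g⁻¹ * c * g ∈ (X : Subgroup G),
      ψ ⟨_, h⟩ = -1) :
    ∃ K : Subgroup G, K.index = 2 := by
  classical
  haveI : Fintype (G ⧸ (X : Subgroup G)) := Fintype.ofFinite _
  refine exists_index_two_of_range (MonoidHom.transfer ψ) (t := c) ?_ h2
  rw [transfer_eq ψ hc]
  have hval : ∀ q : G ⧸ (X : Subgroup G), val ψ c q = 1 ∨ val ψ c q = -1 := by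
    intro q
    induction q using QuotientGroup.induction_on with
    | H g =>
      by_cases hg : g⁻¹ * c * g ∈ (X : Subgroup G)
      · rw [val_mk ψ c g hg]
        have h : (ψ ⟨_, hg⟩) ^ 2 = 1 := by
          rw [← map_pow, ← map_one ψ]
          congr 1
          refine Subtype.ext ?_
          show (g⁻¹ * c * g) ^ 2 = 1
          rw [pow_two, show g⁻¹ * c * g * (g⁻¹ * c * g) = g⁻¹ * (c * c) * g by group, ← pow_two, hc]; group
        have h' : ((ψ ⟨_, hg⟩ : Fˣ) : F) * (ψ ⟨_, hg⟩ : Fˣ) = 1 := by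
          rw [← Units.val_mul, ← pow_two, h, Units.val_one]
        exact (mul_self_eq_one_iff.1 h').imp (fun e => Units.ext e) (fun e => Units.ext e)
      · exact Or.inl (val_of_notMem ψ c g hg)
  let S : SubMulAction (X : Subgroup G) (G ⧸ (X : Subgroup G)) :=
    { carrier := {q | val ψ c q = -1}
      smul_mem' := fun x q hq => by
        induction q using QuotientGroup.induction_on with
        | H g =>
          show val ψ c (((x : G) * g : G) : G ⧸ (X : Subgroup G)) = -1
          have e : ((x : G) * g)⁻¹ * c * ((x : G) * g) = g⁻¹ * c * g := by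
            calc ((x : G) * g)⁻¹ * c * ((x : G) * g) = g⁻¹ * (x : G)⁻¹ * (c * x) * g := by group
              _ = g⁻¹ * c * g := by rw [← hcen x x.2]; group
          by_cases hg : g⁻¹ * c * g ∈ (X : Subgroup G)
          · have hg' := e.symm ▸ hg
            rw [val_mk ψ c _ hg']
            refine Eq.trans (congrArg ψ (a₂ := ⟨_, hg⟩) (Subtype.ext e)) ?_
            exact (val_mk ψ c g hg).symm.trans hq
          · exact absurd ((val_of_notMem ψ c g hg).symm.trans hq) h2.symm }
  have hprod : ∀ q, val ψ c q = if q ∈ S then -1 else 1 := fun q => by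
    split_ifs with hq
    · exact hq
    · exact (hval q).resolve_right hq
  rw [Finset.prod_congr rfl fun q _ => hprod q, Finset.prod_ite, Finset.prod_const, Finset.prod_const_one,
    mul_one]
  refine Odd.neg_one_pow ?_
  have hcard : (Finset.univ.filter fun q => q ∈ S).card = Nat.card S := by
    rw [← Fintype.card_subtype, ← Nat.card_eq_fintype_card]
  rw [hcard]
  have h1 := X.2.card_modEq_card_fixedPoints S
  have h2' := X.2.card_modEq_card_fixedPoints (G ⧸ (X : Subgroup G))
  have hfix : Nat.card (fixedPoints (X : Subgroup G) S) =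
      Nat.card (fixedPoints (X : Subgroup G) (G ⧸ (X : Subgroup G))) := by
    have hmem : ∀ q ∈ fixedPoints (X : Subgroup G) (G ⧸ (X : Subgroup G)), q ∈ S := by
      intro q hq
      induction q using QuotientGroup.induction_on with
      | H g =>
        have hg : g ∈ Subgroup.normalizer ((X : Subgroup G) : Set G) :=
          Sylow.mem_fixedPoints_mul_left_cosets_iff_mem_normalizer.1 hq
        have hgc : g⁻¹ * c * g ∈ (X : Subgroup G) := (Subgroup.mem_normalizer_iff''.1 hg c).1 hcX
        exact (val_mk ψ c g hgc).trans (hfus g hg hgc)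
    refine Nat.card_congr ⟨fun q => ⟨(q.1 : G ⧸ (X : Subgroup G)), fun x => congrArg Subtype.val (q.2 x)⟩,
      fun q => ⟨⟨q.1, hmem q.1 q.2⟩, fun x => Subtype.ext (q.2 x)⟩, fun _ => rfl, fun _ => rfl⟩
  have hodd : Nat.card (G ⧸ (X : Subgroup G)) % 2 = 1 := Nat.two_dvd_ne_zero.1 X.not_dvd_index
  rw [Nat.odd_iff]
  unfold Nat.ModEq at h1 h2'
  omega

end Cfsg.Agent.GL3Two
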